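import Mathlib
import Cfsg.Agent.AutOrth.Gen

/-!
# Generation of `E Q` by few products of commuting Siegel elements

`S Q u w` is the Siegel element as a total function.  `Sys Q m e f` : hyperbolic system.
-/

set_option autoImplicit false
set_option linter.unusedSimpArgs false
set_option linter.unusedVariables false

namespace Cfsg.Agent.H989.Gs.Gen

open QuadraticMap Cfsg.Agent.LieClassical.OrthCore Cfsg.Agent.LieClassical.OrthTrans
  Cfsg.Agent.LieClassical.OrthSimple Cfsg.Agent.AutOrth.SemiSim Cfsg.Agent.AutOrth.Gen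

variable {F V : Type*} [Field F] [AddCommGroup V] [Module F V] {Q : QuadraticForm F V}

/-- action on vectors -/
def ap (g : ↥(E Q)) (v : V) : V := (g : V ≃ₗ[F] V) v

theorem ap_mul (g h : ↥(E Q)) (v : V) : ap (g * h) v = ap g (ap h v) := rfl

theorem ap_one (v : V) : ap (1 : ↥(E Q)) v = v := rfl

theorem ap_add (g : ↥(E Q)) (v w : V) : ap g (v + w) = ap g v + ap g w := map_add _ _ _

theorem ap_sub (g : ↥(E Q)) (v w : V) : ap g (v - w) = ap g v - ap g w := map_sub _ _ _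

theorem ap_neg (g : ↥(E Q)) (v : V) : ap g (-v) = -ap g v := map_neg _ _

theorem ap_smul (g : ↥(E Q)) (a : F) (v : V) : ap g (a • v) = a • ap g v := map_smul _ _ _

theorem ap_inv_ap (g : ↥(E Q)) (v : V) : ap g⁻¹ (ap g v) = v := by
  rw [← ap_mul, inv_mul_cancel, ap_one]

theorem ap_ap_inv (g : ↥(E Q)) (v : V) : ap g (ap g⁻¹ v) = v := by
  rw [← ap_mul, mul_inv_cancel, ap_one]

theorem ap_inv_of {g : ↥(E Q)} {v w : V} (h : ap g v = w) : ap g⁻¹ w = v := by
  rw [← h, ap_inv_ap]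

theorem ap_inv_smul {g : ↥(E Q)} {v : V} {a : F} (ha : a ≠ 0) (h : ap g v = a • v) :
    ap g⁻¹ v = a⁻¹ • v := by
  have h1 : ap g (a⁻¹ • v) = v := by rw [ap_smul, h, smul_smul, inv_mul_cancel₀ ha, one_smul]
  exact ap_inv_of h1

theorem Q_ap (g : ↥(E Q)) (v : V) : Q (ap g v) = Q v := E_le_O g.2 v

theorem polar_ap (g : ↥(E Q)) (v w : V) : polar Q (ap g v) (ap g w) = polar Q v w :=
  polar_map (E_le_O g.2) v w

theorem ext_ap {g h : ↥(E Q)} (H : ∀ v, ap g v = ap h v) : g = h := ext_E H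

open Classical in
/-- the Siegel element, total -/
noncomputable def S (Q : QuadraticForm F V) (u w : V) : ↥(E Q) :=
  if h : Q u = 0 ∧ polar Q u w = 0 then sg Q u w h.1 h.2 else 1

theorem S_eq {u w : V} (hu : Q u = 0) (hw : polar Q u w = 0) : S Q u w = sg Q u w hu hw :=
  dif_pos ⟨hu, hw⟩

theorem S_ap {u w : V} (hu : Q u = 0) (hw : polar Q u w = 0) (v : V) :
    ap (S Q u w) v = v + polar Q u v • w - polar Q w v • u - (Q w * polar Q u v) • u := by
  rw [S_eq hu hw]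
  exact sg_apply hu hw v

/-- `w` singular -/
theorem S_ap' {u w : V} (hu : Q u = 0) (hw : polar Q u w = 0) (hw' : Q w = 0) (v : V) :
    ap (S Q u w) v = v + polar Q u v • w - polar Q w v • u := by
  rw [S_ap hu hw, hw', zero_mul, zero_smul, sub_zero]

theorem S_fix {u w v : V} (hu : Q u = 0) (hw : polar Q u w = 0) (h1 : polar Q u v = 0)
    (h2 : polar Q w v = 0) : ap (S Q u w) v = v := by
  rw [S_ap hu hw, h1, h2]
  simp

theorem S_conj (g : ↥(E Q)) (u w : V) : g * S Q u w * g⁻¹ = S Q (ap g u) (ap g w) := by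
  by_cases h : Q u = 0 ∧ polar Q u w = 0
  · have h1 : Q (ap g u) = 0 := by rw [Q_ap]; exact h.1
    have h2 : polar Q (ap g u) (ap g w) = 0 := by rw [polar_ap]; exact h.2
    rw [S_eq h.1 h.2, S_eq h1 h2]
    exact conj_sg g h.1 h.2 h1 h2
  · have h' : ¬ (Q (ap g u) = 0 ∧ polar Q (ap g u) (ap g w) = 0) := by rwa [Q_ap, polar_ap]
    unfold S
    rw [dif_neg h, dif_neg h', mul_one, mul_inv_cancel]

theorem S_comm {g : ↥(E Q)} {u w : V} (hu : ap g u = u) (hw : ap g w = w) :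
    g * S Q u w = S Q u w * g := by
  have := S_conj g u w
  rw [hu, hw] at this
  rw [mul_inv_eq_iff_eq_mul] at this
  exact this

theorem S_add {u w w' : V} (hu : Q u = 0) (hw : polar Q u w = 0) (hw' : polar Q u w' = 0) :
    S Q u (w + w') = S Q u w * S Q u w' := by
  have h : polar Q u (w + w') = 0 := by rw [polar_add_right, hw, hw', add_zero]
  rw [S_eq hu hw, S_eq hu hw', S_eq hu h, sg_mul hu hw hw' h]

theorem S_zero (u : V) : S Q u 0 = 1 := by
  by_cases h : Q u = 0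
  · rw [S_eq h (by simp), sg_zero]
  · exact dif_neg fun h' => h h'.1

theorem S_zero_left (w : V) : S Q 0 w = 1 := by
  apply ext_ap
  intro v
  rw [S_ap (by simp) (by simp)]
  simp [ap_one]

theorem S_inv {u w : V} (hu : Q u = 0) (hw : polar Q u w = 0) : (S Q u w)⁻¹ = S Q u (-w) := by
  have hw' : polar Q u (-w) = 0 := by rw [polar_neg_right, hw, neg_zero]
  rw [S_eq hu hw, S_eq hu hw', sg_inv hu hw hw']

theorem S_swap {u w : V} (hu : Q u = 0) (hw : Q w = 0) (h : polar Q u w = 0) :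
    S Q u w = S Q w (-u) := by
  have h' : polar Q w (-u) = 0 := by rw [polar_neg_right, polar_comm, h, neg_zero]
  have hu' : Q (-u) = 0 := by rw [QuadraticMap.map_neg, hu]
  apply ext_ap
  intro v
  rw [S_ap' hu h hw, S_ap' hw h' hu', polar_neg_left]
  module

theorem S_smul {u w : V} (a : F) (hu : Q u = 0) (h : polar Q u w = 0) :
    S Q (a • u) w = S Q u (a • w) := by
  have h1 : Q (a • u) = 0 := by rw [QuadraticMap.map_smul, hu, smul_zero]
  have h2 : polar Q (a • u) w = 0 := by rw [polar_smul_left, h, smul_zero]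
  have h3 : polar Q u (a • w) = 0 := by rw [polar_smul_right, h, smul_zero]
  rw [S_eq h1 h2, S_eq hu h3, sg_smul]

theorem S_self_smul {u : V} (a : F) (hu : Q u = 0) : S Q u (a • u) = 1 := by
  have h1 : polar Q u (a • u) = 0 := by rw [polar_smul_right, polar_self_of_sing hu, smul_zero]
  apply ext_ap
  intro v
  rw [S_ap hu h1, QuadraticMap.map_smul, hu, polar_smul_left, ap_one]
  simp only [smul_eq_mul]
  module

/-- additivity in the first argument for singular `w` -/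
theorem S_add_left {u u' w : V} (hu : Q u = 0) (hu' : Q u' = 0) (hw : Q w = 0)
    (h : polar Q u w = 0) (h' : polar Q u' w = 0) (huu : polar Q u u' = 0) :
    S Q (u + u') w = S Q u w * S Q u' w := by
  have h0 : Q (u + u') = 0 := by rw [Q_add, hu, hu', huu]; simp
  have h1 : polar Q (u + u') w = 0 := by rw [polar_add_left, h, h', add_zero]
  have h2 : polar Q w (-u) = 0 := by rw [polar_neg_right, polar_comm, h, neg_zero]
  have h3 : polar Q w (-u') = 0 := by rw [polar_neg_right, polar_comm, h', neg_zero]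
  rw [S_swap h0 hw h1, S_swap hu hw h, S_swap hu' hw h', neg_add, S_add hw h2 h3]

/-! ### Hyperbolic systems -/

/-- `e i`, `f i` (`i < m`) hyperbolic pairs, `0` for `i ≥ m` -/
structure Sys (Q : QuadraticForm F V) (m : ℕ) (e f : ℕ → V) : Prop where
  qe : ∀ i, Q (e i) = 0
  qf : ∀ i, Q (f i) = 0
  ee : ∀ i j, polar Q (e i) (e j) = 0
  ff : ∀ i j, polar Q (f i) (f j) = 0
  ef : ∀ i j, i ≠ j → polar Q (e i) (f j) = 0
  one : ∀ i, i < m → polar Q (e i) (f i) = 1
  ze : ∀ i, m ≤ i → e i = 0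
  zf : ∀ i, m ≤ i → f i = 0

variable {m : ℕ} {e f : ℕ → V}

theorem Sys.symm (h : Sys Q m e f) : Sys Q m f e where
  qe := h.qf
  qf := h.qe
  ee := h.ff
  ff := h.ee
  ef i j hij := by rw [polar_comm]; exact h.ef j i hij.symm
  one i hi := by rw [polar_comm]; exact h.one i hi
  ze := h.zf
  zf := h.ze

theorem Sys.fe (h : Sys Q m e f) {i j : ℕ} (hij : i ≠ j) : polar Q (f i) (e j) = 0 :=
  h.symm.ef i j hij

theorem Sys.pX (h : Sys Q m e f) {i j : ℕ} (hij : i ≠ j) (t : F) :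
    polar Q (e i) (t • f j) = 0 := by rw [polar_smul_right, h.ef i j hij, smul_zero]

theorem Sys.qX (h : Sys Q m e f) (j : ℕ) (t : F) : Q (t • f j) = 0 := by
  rw [QuadraticMap.map_smul, h.qf, smul_zero]

/-- the root element `X i j t : e j ↦ e j - t e i`, `f i ↦ f i + t f j` -/
noncomputable def X (Q : QuadraticForm F V) (e f : ℕ → V) (i j : ℕ) (t : F) : ↥(E Q) :=
  S Q (e i) (t • f j)

theorem X_ap (h : Sys Q m e f) {i j : ℕ} (hij : i ≠ j) (t : F) (v : V) :
    ap (X Q e f i j t) v = v + (t * polar Q (e i) v) • f j - (t * polar Q (f j) v) • e i := by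
  unfold X
  rw [S_ap' (h.qe i) (h.pX hij t) (h.qX j t), polar_smul_left, smul_smul, mul_comm]
  rfl

theorem X_e (h : Sys Q m e f) {i j : ℕ} (hij : i ≠ j) (t : F) {k : ℕ} (hk : k ≠ j) :
    ap (X Q e f i j t) (e k) = e k := by
  rw [X_ap h hij, h.ee, h.fe hk.symm]
  simp

theorem X_f (h : Sys Q m e f) {i j : ℕ} (hij : i ≠ j) (t : F) {k : ℕ} (hk : k ≠ i) :
    ap (X Q e f i j t) (f k) = f k := by
  rw [X_ap h hij, h.ff, h.ef i k hk.symm]
  simp

theorem X_ej (h : Sys Q m e f) {i j : ℕ} (hij : i ≠ j) (hj : j < m) (t : F) :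
    ap (X Q e f i j t) (e j) = e j - t • e i := by
  rw [X_ap h hij, h.ee, polar_comm, h.one j hj]
  simp

theorem X_fi (h : Sys Q m e f) {i j : ℕ} (hij : i ≠ j) (hi : i < m) (t : F) :
    ap (X Q e f i j t) (f i) = f i + t • f j := by
  rw [X_ap h hij, h.ff, h.one i hi]
  simp

theorem X_w (h : Sys Q m e f) {i j : ℕ} (hij : i ≠ j) (t : F) {w : V} (he : polar Q (e i) w = 0)
    (hf : polar Q (f j) w = 0) : ap (X Q e f i j t) w = w := by
  rw [X_ap h hij, he, hf]
  simp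

theorem X_add (h : Sys Q m e f) {i j : ℕ} (hij : i ≠ j) (s t : F) :
    X Q e f i j (s + t) = X Q e f i j s * X Q e f i j t := by
  unfold X
  rw [add_smul, S_add (h.qe i) (h.pX hij s) (h.pX hij t)]

theorem X_zero (h : Sys Q m e f) {i j : ℕ} : X Q e f i j 0 = 1 := by
  unfold X
  rw [zero_smul, S_zero]

theorem X_inv (h : Sys Q m e f) {i j : ℕ} (hij : i ≠ j) (t : F) :
    (X Q e f i j t)⁻¹ = X Q e f i j (-t) := by
  unfold X
  rw [S_inv (h.qe i) (h.pX hij t), neg_smul]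

/-- the symmetric description -/
theorem X_symm (h : Sys Q m e f) {i j : ℕ} (hij : i ≠ j) (t : F) :
    X Q f e i j t = X Q e f j i (-t) := by
  unfold X
  have h1 : polar Q (f i) (t • e j) = 0 := h.symm.pX hij t
  have h2 : Q (t • e j) = 0 := h.symm.qX j t
  rw [S_swap (h.qf i) h2 h1]
  have h3 : polar Q (e j) (-f i) = 0 := by
    rw [polar_neg_right, h.ef j i hij.symm, neg_zero]
  rw [S_smul t (h.qe j) h3, smul_neg, neg_smul]

/-- conjugation: `X i j s * X j k t * (X i j s)⁻¹ = X i k (-s t) * X j k t` -/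
theorem X_conj (h : Sys Q m e f) {i j k : ℕ} (hij : i ≠ j) (hjk : j ≠ k) (hik : i ≠ k) (hj : j < m)
    (s t : F) :
    X Q e f i j s * X Q e f j k t * (X Q e f i j s)⁻¹ = X Q e f i k (-(s * t)) * X Q e f j k t := by
  have h1 : X Q e f i j s * X Q e f j k t * (X Q e f i j s)⁻¹ =
      S Q (e j - s • e i) (t • f k) := by
    unfold X
    rw [S_conj]
    change S Q (ap (X Q e f i j s) (e j)) (ap (X Q e f i j s) (t • f k)) = _
    rw [X_ej h hij hj, ap_smul, X_f h hij s hik.symm]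
  rw [h1]
  have h2 : e j - s • e i = (-s) • e i + e j := by module
  have h3 : Q ((-s) • e i) = 0 := by rw [QuadraticMap.map_smul, h.qe, smul_zero]
  have h4 : polar Q ((-s) • e i) (t • f k) = 0 := by
    rw [polar_smul_left, h.pX hik, smul_zero]
  have h5 : polar Q ((-s) • e i) (e j) = 0 := by
    rw [polar_smul_left, h.ee, smul_zero]
  rw [h2, S_add_left h3 (h.qe j) (h.qX k t) h4 (h.pX hjk t) h5]
  unfold X
  rw [S_smul (-s) (h.qe i) (h.pX hik t), smul_smul, neg_mul]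

variable {H : Subgroup ↥(E Q)}

/-- from `X i j (F) ≤ H` and `X j k t₀ ∈ H` : `X i k (F) ≤ H` -/
theorem X_trans (h : Sys Q m e f) {i j k : ℕ} (hij : i ≠ j) (hjk : j ≠ k) (hik : i ≠ k) (hj : j < m)
    (h1 : ∀ t, X Q e f i j t ∈ H) {t₀ : F} (ht : t₀ ≠ 0) (h2 : X Q e f j k t₀ ∈ H) :
    ∀ t, X Q e f i k t ∈ H := by
  intro t
  have h3 := X_conj h hij hjk hik hj (-(t * t₀⁻¹)) t₀
  have h4 : -(-(t * t₀⁻¹) * t₀) = t := by field_simp
  rw [h4] at h3
  have h5 : X Q e f i k t = X Q e f i j (-(t * t₀⁻¹)) * X Q e f j k t₀ *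
      (X Q e f i j (-(t * t₀⁻¹)))⁻¹ * (X Q e f j k t₀)⁻¹ := by rw [h3]; group
  rw [h5]
  exact mul_mem (mul_mem (mul_mem (h1 _) h2) (inv_mem (h1 _))) (inv_mem h2)

/-! ### The torus element -/

/-- `e i ↦ s e i`, `e j ↦ s⁻¹ e j` -/
noncomputable def dd (Q : QuadraticForm F V) (e f : ℕ → V) (i j : ℕ) (s : F) : ↥(E Q) :=
  X Q e f i j (-s) * X Q e f j i s⁻¹ * X Q e f i j (-s) * (X Q e f i j 1 * X Q e f j i (-1) * X Q e f i j 1)

theorem dd_ei (h : Sys Q m e f) {i j : ℕ} (hij : i ≠ j) (hi : i < m) (hj : j < m) {s : F}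
    (hs : s ≠ 0) : ap (dd Q e f i j s) (e i) = s • e i := by
  unfold dd
  simp only [ap_mul, ap_add, ap_sub, ap_smul, X_e h hij _ hij, X_ej h hij hj, X_e h hij.symm _ hij.symm,
    X_ej h hij.symm hi, smul_sub, smul_add, smul_smul]
  match_scalars <;> field_simp <;> ring

theorem dd_ej (h : Sys Q m e f) {i j : ℕ} (hij : i ≠ j) (hi : i < m) (hj : j < m) {s : F}
    (hs : s ≠ 0) : ap (dd Q e f i j s) (e j) = s⁻¹ • e j := by
  unfold dd
  simp only [ap_mul, ap_add, ap_sub, ap_smul, X_e h hij _ hij, X_ej h hij hj, X_e h hij.symm _ hij.symm,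
    X_ej h hij.symm hi, smul_sub, smul_add, smul_smul]
  match_scalars <;> field_simp <;> ring

theorem dd_fi (h : Sys Q m e f) {i j : ℕ} (hij : i ≠ j) (hi : i < m) (hj : j < m) {s : F}
    (hs : s ≠ 0) : ap (dd Q e f i j s) (f i) = s⁻¹ • f i := by
  unfold dd
  simp only [ap_mul, ap_add, ap_sub, ap_smul, X_f h hij _ hij.symm, X_fi h hij hi, X_f h hij.symm _ hij,
    X_fi h hij.symm hj, smul_sub, smul_add, smul_smul]
  match_scalars <;> field_simp <;> ring

theorem dd_fj (h : Sys Q m e f) {i j : ℕ} (hij : i ≠ j) (hi : i < m) (hj : j < m) {s : F}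
    (hs : s ≠ 0) : ap (dd Q e f i j s) (f j) = s • f j := by
  unfold dd
  simp only [ap_mul, ap_add, ap_sub, ap_smul, X_f h hij _ hij.symm, X_fi h hij hi, X_f h hij.symm _ hij,
    X_fi h hij.symm hj, smul_sub, smul_add, smul_smul]
  match_scalars <;> field_simp <;> ring

theorem dd_e (h : Sys Q m e f) {i j k : ℕ} (hij : i ≠ j) (hi : k ≠ i) (hj : k ≠ j) (s : F) :
    ap (dd Q e f i j s) (e k) = e k := by
  unfold dd
  simp only [ap_mul, X_e h hij _ hj, X_e h hij.symm _ hi]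

theorem dd_f (h : Sys Q m e f) {i j k : ℕ} (hij : i ≠ j) (hi : k ≠ i) (hj : k ≠ j) (s : F) :
    ap (dd Q e f i j s) (f k) = f k := by
  unfold dd
  simp only [ap_mul, X_f h hij _ hi, X_f h hij.symm _ hj]

theorem dd_w (h : Sys Q m e f) {i j : ℕ} (hij : i ≠ j) (s : F) {w : V}
    (he : ∀ i, polar Q (e i) w = 0) (hf : ∀ i, polar Q (f i) w = 0) :
    ap (dd Q e f i j s) w = w := by
  unfold dd
  simp only [ap_mul, X_w h hij _ (he _) (hf _), X_w h hij.symm _ (he _) (hf _)]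

theorem dd_mem {i j : ℕ} (h1 : ∀ t, X Q e f i j t ∈ H) (h2 : ∀ t, X Q e f j i t ∈ H) (s : F) :
    dd Q e f i j s ∈ H :=
  mul_mem (mul_mem (mul_mem (h1 _) (h2 _)) (h1 _)) (mul_mem (mul_mem (h1 _) (h2 _)) (h1 _))

/-- the Weyl element `e i ↦ e k ↦ -e i` -/
noncomputable def nn (Q : QuadraticForm F V) (e f : ℕ → V) (i k : ℕ) : ↥(E Q) :=
  X Q e f k i (-1) * (X Q e f i k 1 * X Q e f k i (-1))

theorem nn_ei (h : Sys Q m e f) {i k : ℕ} (hik : i ≠ k) (hi : i < m) (hk : k < m) :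
    ap (nn Q e f i k) (e i) = e k := by
  unfold nn
  simp only [ap_mul, ap_add, ap_sub, ap_smul, X_e h hik _ hik, X_ej h hik hk, X_e h hik.symm _ hik.symm,
    X_ej h hik.symm hi, smul_sub, smul_add, smul_smul]
  module

theorem nn_ek (h : Sys Q m e f) {i k : ℕ} (hik : i ≠ k) (hi : i < m) (hk : k < m) :
    ap (nn Q e f i k) (e k) = -e i := by
  unfold nn
  simp only [ap_mul, ap_add, ap_sub, ap_smul, X_e h hik _ hik, X_ej h hik hk, X_e h hik.symm _ hik.symm,
    X_ej h hik.symm hi, smul_sub, smul_add, smul_smul]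
  module

theorem nn_fi (h : Sys Q m e f) {i k : ℕ} (hik : i ≠ k) (hi : i < m) (hk : k < m) :
    ap (nn Q e f i k) (f i) = f k := by
  unfold nn
  simp only [ap_mul, ap_add, ap_sub, ap_smul, X_f h hik _ hik.symm, X_fi h hik hi, X_f h hik.symm _ hik,
    X_fi h hik.symm hk, smul_sub, smul_add, smul_smul]
  module

theorem nn_w (h : Sys Q m e f) {i k : ℕ} (hik : i ≠ k) {w : V}
    (he : ∀ i, polar Q (e i) w = 0) (hf : ∀ i, polar Q (f i) w = 0) :
    ap (nn Q e f i k) w = w := by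
  unfold nn
  simp only [ap_mul, X_w h hik _ (he _) (hf _), X_w h hik.symm _ (he _) (hf _)]

theorem nn_mem {i k : ℕ} (h1 : ∀ t, X Q e f i k t ∈ H) (h2 : ∀ t, X Q e f k i t ∈ H) :
    nn Q e f i k ∈ H := mul_mem (h2 _) (mul_mem (h1 _) (h2 _))

/-! ### Products of commuting root elements -/

/-- `∏_{j < n} X (k + 2 j + 1) (k + 2 j) t` -/
noncomputable def T (Q : QuadraticForm F V) (e f : ℕ → V) : ℕ → ℕ → F → ↥(E Q)
  | 0, _, _ => 1
  | n + 1, k, t => X Q e f (k + 1) k t * T Q e f n (k + 2) t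

theorem T_e (h : Sys Q m e f) (n : ℕ) : ∀ (k : ℕ) (t : F) (i : ℕ), i < k →
    ap (T Q e f n k t) (e i) = e i := by
  induction n with
  | zero => intro k t i _; rfl
  | succ n ih =>
    intro k t i hi
    change ap (X Q e f (k + 1) k t * T Q e f n (k + 2) t) (e i) = e i
    rw [ap_mul, ih _ _ _ (by omega), X_e h (by omega) t (by omega)]

theorem T_f (h : Sys Q m e f) (n : ℕ) : ∀ (k : ℕ) (t : F) (i : ℕ), i < k →
    ap (T Q e f n k t) (f i) = f i := by
  induction n with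
  | zero => intro k t i _; rfl
  | succ n ih =>
    intro k t i hi
    change ap (X Q e f (k + 1) k t * T Q e f n (k + 2) t) (f i) = f i
    rw [ap_mul, ih _ _ _ (by omega), X_f h (by omega) t (by omega)]

theorem T_zero (h : Sys Q m e f) (n : ℕ) : ∀ k : ℕ, T Q e f n k 0 = 1 := by
  induction n with
  | zero => intro k; rfl
  | succ n ih =>
    intro k
    change X Q e f (k + 1) k 0 * T Q e f n (k + 2) 0 = 1
    rw [ih, X_zero h, one_mul]

theorem T_add (h : Sys Q m e f) (n : ℕ) : ∀ (k : ℕ) (s t : F),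
    T Q e f n k (s + t) = T Q e f n k s * T Q e f n k t := by
  induction n with
  | zero => intro k s t; exact (one_mul _).symm
  | succ n ih =>
    intro k s t
    change X Q e f (k + 1) k (s + t) * T Q e f n (k + 2) (s + t) =
      (X Q e f (k + 1) k s * T Q e f n (k + 2) s) * (X Q e f (k + 1) k t * T Q e f n (k + 2) t)
    rw [ih, X_add h (by omega)]
    have h1 : T Q e f n (k + 2) s * X Q e f (k + 1) k t = X Q e f (k + 1) k t * T Q e f n (k + 2) s := by
      unfold X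
      apply S_comm
      · exact T_e h n _ _ _ (by omega)
      · rw [ap_smul, T_f h n _ _ _ (by omega)]
    rw [mul_assoc (X Q e f (k + 1) k s) (T Q e f n (k + 2) s), ← mul_assoc (T Q e f n (k + 2) s), h1]
    simp only [mul_assoc]

theorem T_inv (h : Sys Q m e f) (n k : ℕ) (t : F) : (T Q e f n k t)⁻¹ = T Q e f n k (-t) := by
  rw [inv_eq_iff_mul_eq_one, ← T_add h, add_neg_cancel, T_zero h]

theorem T_conj (h : Sys Q m e f) {D : ↥(E Q)} (h1 : ∀ i, Even i → ap D (e (i + 1)) = e (i + 1))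
    (h2 : ∀ i, 2 ≤ i → Even i → ap D (f i) = f i ∨ e (i + 1) = 0) (n : ℕ) : ∀ (k : ℕ) (t : F),
    2 ≤ k → Even k → D * T Q e f n k t * D⁻¹ = T Q e f n k t := by
  induction n with
  | zero =>
    intro k t _ _
    change D * 1 * D⁻¹ = 1
    rw [mul_one, mul_inv_cancel]
  | succ n ih =>
    intro k t hk hk2
    change D * (X Q e f (k + 1) k t * T Q e f n (k + 2) t) * D⁻¹ = X Q e f (k + 1) k t * T Q e f n (k + 2) t
    have h3 := ih (k + 2) t (by omega) (hk2.add (by decide))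
    have h4 : D * X Q e f (k + 1) k t * D⁻¹ = X Q e f (k + 1) k t := by
      unfold X
      rw [S_conj]
      rcases h2 k hk hk2 with h5 | h5
      · rw [h1 k hk2, ap_smul, h5]
      · rw [h1 k hk2, h5, S_zero_left, S_zero_left]
    calc D * (X Q e f (k + 1) k t * T Q e f n (k + 2) t) * D⁻¹
        = (D * X Q e f (k + 1) k t * D⁻¹) * (D * T Q e f n (k + 2) t * D⁻¹) := by group
      _ = _ := by rw [h3, h4]

/-! ### The base -/

/-- a set of field elements closed under addition and under multiplication by a generator -/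
theorem eq_univ_of_closed {A : AddSubgroup F} {μ c : F} (hcl : Subring.closure {μ} = ⊤)
    (hμ : ∀ t ∈ A, t * μ ∈ A) (hc : c ≠ 0) (hcA : c ∈ A) (t : F) : t ∈ A := by
  let R : Subring F :=
    { carrier := {r | ∀ t ∈ A, t * r ∈ A}
      mul_mem' := by
        intro a b ha hb t ht
        rw [← mul_assoc]
        exact hb _ (ha _ ht)
      one_mem' := by intro t ht; rwa [mul_one]
      add_mem' := by
        intro a b ha hb t ht
        rw [mul_add]
        exact add_mem (ha _ ht) (hb _ ht)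
      zero_mem' := by intro t _; rw [mul_zero]; exact zero_mem A
      neg_mem' := by
        intro a ha t ht
        rw [mul_neg]
        exact neg_mem (ha _ ht) }
  have h1 : Subring.closure {μ} ≤ R := by
    rw [Subring.closure_le]
    rintro _ rfl
    exact hμ
  have h2 : c⁻¹ * t ∈ R := by
    apply h1
    rw [hcl]
    trivial
  have h3 := h2 c hcA
  rwa [mul_inv_cancel_left₀ hc] at h3

/-- the additive group of the `t` with `X i j t ∈ H` -/
def AX (h : Sys Q m e f) {i j : ℕ} (hij : i ≠ j) (H : Subgroup ↥(E Q)) : AddSubgroup F where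
  carrier := {t | X Q e f i j t ∈ H}
  add_mem' := by
    intro s t hs ht
    change X Q e f i j (s + t) ∈ H
    rw [X_add h hij]
    exact mul_mem hs ht
  zero_mem' := by
    change X Q e f i j 0 ∈ H
    rw [X_zero h]
    exact one_mem H
  neg_mem' := by
    intro t ht
    change X Q e f i j (-t) ∈ H
    rw [← X_inv h hij]
    exact inv_mem ht

theorem base (h : Sys Q m e f) {D : ↥(E Q)} (hD : D ∈ H) {μ κ : F} (hμ1 : μ ≠ 1)
    (hcl : Subring.closure {μ} = ⊤) (h1 : ∀ i, Even i → ap D (e (i + 1)) = e (i + 1))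
    (h2 : ∀ i, 2 ≤ i → Even i → ap D (f i) = f i ∨ e (i + 1) = 0) (hf0 : ap D (f 0) = μ • f 0)
    (hκ : κ ≠ 0) {n : ℕ} (hT : T Q e f (n + 1) 0 κ ∈ H) : ∀ t, X Q e f 1 0 t ∈ H := by
  have h10 : (1 : ℕ) ≠ 0 := one_ne_zero
  have hc : ∀ t, D * X Q e f 1 0 t * D⁻¹ = X Q e f 1 0 (t * μ) := by
    intro t
    unfold X
    rw [S_conj, ap_smul, hf0, smul_smul]
    have := h1 0 (by decide)
    simp only [zero_add] at this
    rw [this]
  have hT' : X Q e f 1 0 κ * T Q e f n 2 κ ∈ H := hT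
  have h3 : D * (X Q e f 1 0 κ * T Q e f n 2 κ) * D⁻¹ ∈ H := mul_mem (mul_mem hD hT') (inv_mem hD)
  have h4 : D * (X Q e f 1 0 κ * T Q e f n 2 κ) * D⁻¹ = X Q e f 1 0 (κ * μ) * T Q e f n 2 κ := by
    calc D * (X Q e f 1 0 κ * T Q e f n 2 κ) * D⁻¹
        = (D * X Q e f 1 0 κ * D⁻¹) * (D * T Q e f n 2 κ * D⁻¹) := by group
      _ = _ := by rw [hc, T_conj h h1 h2 n 2 κ (le_refl 2) (by decide)]
  rw [h4] at h3
  have h5 : X Q e f 1 0 (κ * μ - κ) ∈ H := by
    have h6 := mul_mem h3 (inv_mem hT')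
    have h7 : X Q e f 1 0 (κ * μ) * T Q e f n 2 κ * (X Q e f 1 0 κ * T Q e f n 2 κ)⁻¹ =
        X Q e f 1 0 (κ * μ - κ) := by
      rw [sub_eq_add_neg, X_add h h10, ← X_inv h h10]
      group
    rwa [h7] at h6
  have h8 : κ * μ - κ ≠ 0 := by
    intro h9
    apply hμ1
    have : κ * (μ - 1) = 0 := by rw [mul_sub, mul_one]; exact h9
    rcases mul_eq_zero.1 this with h | h
    · exact absurd h hκ
    · exact sub_eq_zero.1 h
  intro t
  exact eq_univ_of_closed (A := AX h h10 H) hcl (fun t ht => by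
    change X Q e f 1 0 (t * μ) ∈ H
    rw [← hc]
    exact mul_mem (mul_mem hD ht) (inv_mem hD)) h8 h5 t

/-! ### The chain -/

/-- all root groups `X i j`, `i ≠ j ≤ k` lie in `H` -/
def P (Q : QuadraticForm F V) (e f : ℕ → V) (H : Subgroup ↥(E Q)) (k : ℕ) : Prop :=
  ∀ i j, i ≤ k → j ≤ k → i ≠ j → ∀ t, X Q e f i j t ∈ H

theorem P_symm (h : Sys Q m e f) {k : ℕ} (hP : P Q e f H k) : P Q f e H k := by
  intro i j hi hj hij t
  rw [X_symm h hij]
  exact hP j i hj hi hij.symm _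

theorem chain_side (h : Sys Q m e f) {k : ℕ} (hk : 1 ≤ k) (hkm : k + 1 < m) (hP : P Q e f H k)
    {R : ↥(E Q)} {κ : F} (hκ : κ ≠ 0) (hR : X Q e f (k + 1) k κ * R ∈ H)
    (hRe : ∀ i, i < k + 2 → ap R (e i) = e i) (hRf : ∀ i, i < k + 2 → ap R (f i) = f i) :
    ∀ j, j ≤ k → ∀ t, X Q e f (k + 1) j t ∈ H := by
  have h0 : ∀ t, X Q e f (k + 1) 0 t ∈ H := by
    intro t
    have h1 : R * X Q e f k 0 (-(t * κ⁻¹)) = X Q e f k 0 (-(t * κ⁻¹)) * R := by
      unfold X
      apply S_comm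
      · exact hRe _ (by omega)
      · rw [ap_smul, hRf _ (by omega)]
    have h2 := X_conj h (i := k + 1) (j := k) (k := 0) (by omega) (by omega) (by omega) (by omega) κ
      (-(t * κ⁻¹))
    have h3 : -(κ * -(t * κ⁻¹)) = t := by field_simp
    rw [h3] at h2
    have h4 : X Q e f (k + 1) 0 t = (X Q e f (k + 1) k κ * R) * X Q e f k 0 (-(t * κ⁻¹)) *
        (X Q e f (k + 1) k κ * R)⁻¹ * (X Q e f k 0 (-(t * κ⁻¹)))⁻¹ := by
      have h5 : (X Q e f (k + 1) k κ * R) * X Q e f k 0 (-(t * κ⁻¹)) * (X Q e f (k + 1) k κ * R)⁻¹ =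
          X Q e f (k + 1) k κ * X Q e f k 0 (-(t * κ⁻¹)) * (X Q e f (k + 1) k κ)⁻¹ := by
        rw [mul_assoc (X Q e f (k + 1) k κ) R, h1]
        group
      rw [h5, h2]
      group
    rw [h4]
    have h6 := hP k 0 (le_refl k) (by omega) (by omega) (-(t * κ⁻¹))
    exact mul_mem (mul_mem (mul_mem hR h6) (inv_mem hR)) (inv_mem h6)
  intro j hj
  by_cases hj0 : j = 0
  · subst hj0
    exact h0
  · exact X_trans h (i := k + 1) (j := 0) (k := j) (by omega) (by omega) (by omega) (by omega) h0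
      one_ne_zero (hP 0 j (by omega) hj (by omega) 1)

/-- the invariant -/
structure Inv (Q : QuadraticForm F V) (m : ℕ) (e f : ℕ → V) (H : Subgroup ↥(E Q)) (κ : F) (k : ℕ) :
    Prop where
  k1 : 1 ≤ k
  hP : P Q e f H k
  a : ∃ n, m ≤ k + 2 * n ∧ T Q e f n k κ ∈ H
  b : ∃ n, m ≤ k + 1 + 2 * n ∧ T Q e f n (k + 1) κ ∈ H
  c : ∃ n, m ≤ k + 2 * n ∧ T Q f e n k κ ∈ H
  d : ∃ n, m ≤ k + 1 + 2 * n ∧ T Q f e n (k + 1) κ ∈ H

theorem Inv.step (h : Sys Q m e f) {κ : F} (hκ : κ ≠ 0) {k : ℕ} (hI : Inv Q m e f H κ k)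
    (hkm : k + 1 < m) : Inv Q m e f H κ (k + 1) := by
  obtain ⟨na, hna, hTa⟩ := hI.a
  obtain ⟨nc, hnc, hTc⟩ := hI.c
  obtain ⟨na, rfl⟩ : ∃ a, na = a + 1 := ⟨na - 1, by omega⟩
  obtain ⟨nc, rfl⟩ : ∃ a, nc = a + 1 := ⟨nc - 1, by omega⟩
  have hTa' : X Q e f (k + 1) k κ * T Q e f na (k + 2) κ ∈ H := hTa
  have hTc' : X Q f e (k + 1) k κ * T Q f e nc (k + 2) κ ∈ H := hTc
  have h1 := chain_side h hI.k1 hkm hI.hP hκ hTa' (fun i hi => T_e h _ _ _ _ hi)
    (fun i hi => T_f h _ _ _ _ hi)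
  have h2 := chain_side h.symm hI.k1 hkm (P_symm h hI.hP) hκ hTc' (fun i hi => T_e h.symm _ _ _ _ hi)
    (fun i hi => T_f h.symm _ _ _ _ hi)
  refine ⟨by omega, ?_, hI.b, ⟨na, by omega, ?_⟩, hI.d, ⟨nc, by omega, ?_⟩⟩
  · intro i j hi hj hij t
    by_cases hi1 : i = k + 1
    · subst hi1
      exact h1 j (by omega) t
    · by_cases hj1 : j = k + 1
      · subst hj1
        have h3 := h2 i (by omega) (-t)
        rwa [X_symm h (by omega), neg_neg] at h3
      · exact hI.hP i j (by omega) (by omega) hij t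
  · have h3 := mul_mem (inv_mem (h1 k (le_refl k) κ)) hTa'
    rwa [inv_mul_cancel_left] at h3
  · have h3 := mul_mem (inv_mem (h2 k (le_refl k) κ)) hTc'
    rwa [inv_mul_cancel_left] at h3

/-- **all root groups of the natural `SL_m`** -/
theorem all_P (h : Sys Q m e f) (hm : 2 ≤ m) {D : ↥(E Q)} (hD : D ∈ H) {μ ν κ : F} (hμ1 : μ ≠ 1)
    (hν1 : ν ≠ 1) (hcl : Subring.closure {μ} = ⊤) (hcl' : Subring.closure {ν} = ⊤)
    (h1 : ∀ i, Even i → ap D (e (i + 1)) = e (i + 1))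
    (h2 : ∀ i, 2 ≤ i → Even i → ap D (f i) = f i ∨ e (i + 1) = 0) (hf0 : ap D (f 0) = μ • f 0)
    (h1' : ∀ i, Even i → ap D (f (i + 1)) = f (i + 1))
    (h2' : ∀ i, 2 ≤ i → Even i → ap D (e i) = e i ∨ f (i + 1) = 0) (he0 : ap D (e 0) = ν • e 0)
    (hκ : κ ≠ 0) {n : ℕ} (hn : m ≤ 2 * n) (hT0 : T Q e f n 0 κ ∈ H) (hT1 : T Q e f n 1 κ ∈ H)
    (hT0' : T Q f e n 0 κ ∈ H) (hT1' : T Q f e n 1 κ ∈ H) : P Q e f H (m - 1) := by
  obtain ⟨n, rfl⟩ : ∃ a, n = a + 1 := ⟨n - 1, by omega⟩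
  have h3 := base h hD hμ1 hcl h1 h2 hf0 hκ hT0
  have h4 := base h.symm hD hν1 hcl' h1' h2' he0 hκ hT0'
  have h5 : ∀ t, X Q e f 0 1 t ∈ H := by
    intro t
    have := h4 (-t)
    rwa [X_symm h one_ne_zero, neg_neg] at this
  have hI : Inv Q m e f H κ 1 := by
    refine ⟨le_refl 1, ?_, ⟨n + 1, by omega, hT1⟩, ⟨n, by omega, ?_⟩, ⟨n + 1, by omega, hT1'⟩,
      ⟨n, by omega, ?_⟩⟩
    · intro i j hi hj hij t
      rcases Nat.le_one_iff_eq_zero_or_eq_one.1 hi with rfl | rfl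
      · rcases Nat.le_one_iff_eq_zero_or_eq_one.1 hj with rfl | rfl
        · exact absurd rfl hij
        · exact h5 t
      · rcases Nat.le_one_iff_eq_zero_or_eq_one.1 hj with rfl | rfl
        · exact h3 t
        · exact absurd rfl hij
    · have h6 : X Q e f 1 0 κ * T Q e f n 2 κ ∈ H := hT0
      have h7 := mul_mem (inv_mem (h3 κ)) h6
      rwa [inv_mul_cancel_left] at h7
    · have h6 : X Q f e 1 0 κ * T Q f e n 2 κ ∈ H := hT0'
      have h7 := mul_mem (inv_mem (h4 κ)) h6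
      rwa [inv_mul_cancel_left] at h7
  have key : ∀ k, 1 ≤ k → k < m → Inv Q m e f H κ k := by
    intro k
    induction k with
    | zero => intro h0; omega
    | succ k ih =>
      intro _ hk
      by_cases hk0 : k = 0
      · subst hk0
        exact hI
      · exact (ih (by omega) (by omega)).step h hκ hk
  exact (key (m - 1) (by omega) (by omega)).hP

/-! ### The end -/

/-- the Siegel group of `e 0` -/
theorem RS_le (h : Sys Q m e f) {ι : Type*} {w : ι → V} (hm : 0 < m)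
    (hwe : ∀ i j, polar Q (e i) (w j) = 0)
    (hspan : Submodule.span F (Set.range e ∪ Set.range f ∪ Set.range w) = ⊤)
    (hX : ∀ i, i ≠ 0 → ∀ t, X Q e f 0 i t ∈ H) (hw : ∀ (i : ℕ) (j : ι) (t : F), i < m → S Q (e i) (t • w j) ∈ H)
    {j j' : ι} (hjj : polar Q (w j) (w j') ≠ 0) : RS Q (e 0) (h.qe 0) ≤ H := by
  have hee : ∀ i, i ≠ 0 → ∀ t : F, S Q (e 0) (t • e i) ∈ H := by
    intro i hi t
    by_cases him : i < m
    · set β := polar Q (w j) (w j') with hβ
      have h1 : S Q (e 0) ((t * β⁻¹) • w j) * S Q (e i) ((1 : F) • w j') * (S Q (e 0) ((t * β⁻¹) • w j))⁻¹ =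
          S Q (e i) ((1 : F) • w j') * S Q (e i) ((-t) • e 0) := by
        have p1 : polar Q (e 0) ((t * β⁻¹) • w j) = 0 := by rw [polar_smul_right, hwe, smul_zero]
        have p2 : polar Q (e i) ((1 : F) • w j') = 0 := by rw [polar_smul_right, hwe, smul_zero]
        have p3 : polar Q (e i) ((-t) • e 0) = 0 := by rw [polar_smul_right, h.ee, smul_zero]
        rw [S_conj, ← S_add (h.qe i) p2 p3]
        congr 1
        · apply S_fix (h.qe 0) p1 (h.ee _ _)
          rw [polar_smul_left, polar_comm, hwe, smul_zero]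
        · rw [one_smul, S_ap (h.qe 0) p1, hwe, polar_smul_left, ← hβ]
          have hb : (t * β⁻¹) • β = t := by rw [smul_eq_mul, mul_assoc, inv_mul_cancel₀ hjj, mul_one]
          rw [hb]
          module
      have h2 : S Q (e i) ((-t) • e 0) ∈ H := by
        have h3 := mul_mem (mul_mem (hw 0 j (t * β⁻¹) hm) (hw i j' 1 him)) (inv_mem (hw 0 j (t * β⁻¹) hm))
        rw [h1] at h3
        have h4 := mul_mem (inv_mem (hw i j' 1 him)) h3
        rwa [inv_mul_cancel_left] at h4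
      have h5 : S Q (e 0) (t • e i) = S Q (e i) ((-t) • e 0) := by
        have q1 : Q (t • e i) = 0 := by rw [QuadraticMap.map_smul, h.qe, smul_zero]
        have q2 : polar Q (e 0) (t • e i) = 0 := by rw [polar_smul_right, h.ee, smul_zero]
        have q3 : polar Q (e i) (-e 0) = 0 := by rw [polar_neg_right, h.ee, neg_zero]
        rw [S_swap (h.qe 0) q1 q2, S_smul t (h.qe i) q3, smul_neg, neg_smul]
      rw [h5]
      exact h2
    · rw [h.ze i (by omega), smul_zero, S_zero]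
      exact one_mem H
  -- the additive group
  have key : ∀ v : V, ∀ t : F, S Q (e 0) (t • v - polar Q (e 0) (t • v) • f 0) ∈ H := by
    intro v
    have hv : v ∈ Submodule.span F (Set.range e ∪ Set.range f ∪ Set.range w) := by rw [hspan]; trivial
    induction hv using Submodule.span_induction with
    | mem x hx =>
      intro t
      rcases hx with (⟨i, rfl⟩ | ⟨i, rfl⟩) | ⟨i, rfl⟩
      · rw [polar_smul_right, h.ee, smul_zero, zero_smul, sub_zero]
        by_cases hi : i = 0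
        · subst hi
          rw [S_self_smul _ (h.qe 0)]
          exact one_mem H
        · exact hee i hi t
      · by_cases hi : i = 0
        · subst hi
          rw [polar_smul_right, h.one 0 hm, smul_eq_mul, mul_one, sub_self, S_zero]
          exact one_mem H
        · rw [polar_smul_right, h.ef 0 i (Ne.symm hi), smul_zero, zero_smul, sub_zero]
          exact hX i hi t
      · rw [polar_smul_right, hwe, smul_zero, zero_smul, sub_zero]
        exact hw 0 i t hm
    | zero =>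
      intro t
      rw [smul_zero, polar_zero_right, zero_smul, sub_zero, S_zero]
      exact one_mem H
    | add x y _ _ hx hy =>
      intro t
      have h1 : ∀ z : V, polar Q (e 0) (z - polar Q (e 0) z • f 0) = 0 := by
        intro z
        rw [polar_sub_right, polar_smul_right, h.one 0 hm, smul_eq_mul, mul_one, sub_self]
      have h2 : t • (x + y) - polar Q (e 0) (t • (x + y)) • f 0 =
          (t • x - polar Q (e 0) (t • x) • f 0) + (t • y - polar Q (e 0) (t • y) • f 0) := by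
        rw [smul_add, polar_add_right, add_smul]
        abel
      rw [h2, S_add (h.qe 0) (h1 _) (h1 _)]
      exact mul_mem (hx t) (hy t)
    | smul a x _ hx =>
      intro t
      rw [smul_smul]
      exact hx (t * a)
  rintro _ ⟨v, hv, rfl⟩
  have h1 := key v 1
  rw [one_smul, hv, zero_smul, sub_zero, S_eq (h.qe 0) hv] at h1
  exact h1

/-- **generation of `E Q`** -/
theorem eq_top (hG : Good Q) (h : Sys Q m e f) (hm : 3 ≤ m) {ι : Type*} {w : ι → V}
    (hwe : ∀ i j, polar Q (e i) (w j) = 0) (hwf : ∀ i j, polar Q (f i) (w j) = 0)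
    (hspan : Submodule.span F (Set.range e ∪ Set.range f ∪ Set.range w) = ⊤)
    (hP : P Q e f H (m - 1)) {j j' : ι} (hjj : polar Q (w j) (w j') ≠ 0) {κ c : F} (hκ : κ ≠ 0)
    (hc0 : c ≠ 0) (hc1 : c ≠ 1) (hw : ∀ i, S Q (e 0) (κ • w i) * S Q (f 1) (κ • w i) ∈ H) : H = ⊤ := by
  have hX : ∀ i j, i ≠ j → ∀ t, X Q e f i j t ∈ H := by
    intro i j hij t
    by_cases hi : i < m
    · by_cases hj : j < m
      · exact hP i j (by omega) (by omega) hij t
      · unfold X
        rw [h.zf j (by omega), smul_zero, S_zero]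
        exact one_mem H
    · unfold X
      rw [h.ze i (by omega), S_zero_left]
      exact one_mem H
  have hdd : ∀ i j, i ≠ j → ∀ s, dd Q e f i j s ∈ H := fun i j hij s =>
    dd_mem (hX i j hij) (hX j i hij.symm) s
  have hnn : ∀ i j, i ≠ j → nn Q e f i j ∈ H := fun i j hij => nn_mem (hX i j hij) (hX j i hij.symm)
  have pe : ∀ (i : ℕ) (j : ι) (t : F), polar Q (e i) (t • w j) = 0 := fun i j t => by
    rw [polar_smul_right, hwe, smul_zero]
  have pf : ∀ (i : ℕ) (j : ι) (t : F), polar Q (f i) (t • w j) = 0 := fun i j t => by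
    rw [polar_smul_right, hwf, smul_zero]
  have h02 : (0 : ℕ) ≠ 2 := by norm_num
  have h12 : (1 : ℕ) ≠ 2 := by norm_num
  -- `S (e 0) (t w)`
  have he0 : ∀ (i : ι) (t : F), S Q (e 0) (t • w i) ∈ H := by
    intro i
    have h1 : ∀ s : F, s ≠ 0 → dd Q e f 0 2 s * S Q (e 0) (κ • w i) * (dd Q e f 0 2 s)⁻¹ =
        S Q (e 0) ((s * κ) • w i) := by
      intro s hs
      rw [S_conj, dd_ei h h02 (by omega) (by omega) hs, ap_smul,
        dd_w h h02 s (fun k => hwe k i) (fun k => hwf k i), S_smul s (h.qe 0) (pe _ _ _), smul_smul]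
    have h2 : dd Q e f 0 2 c * S Q (f 1) (κ • w i) * (dd Q e f 0 2 c)⁻¹ = S Q (f 1) (κ • w i) := by
      rw [S_conj, dd_f h h02 (by norm_num) (by norm_num) c, ap_smul,
        dd_w h h02 c (fun k => hwe k i) (fun k => hwf k i)]
    have h3 := mul_mem (mul_mem (mul_mem (hdd 0 2 h02 c) (hw i)) (inv_mem (hdd 0 2 h02 c))) (inv_mem (hw i))
    have h4 : dd Q e f 0 2 c * (S Q (e 0) (κ • w i) * S Q (f 1) (κ • w i)) * (dd Q e f 0 2 c)⁻¹ *
        (S Q (e 0) (κ • w i) * S Q (f 1) (κ • w i))⁻¹ = S Q (e 0) ((c * κ - κ) • w i) := by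
      have h5 : dd Q e f 0 2 c * (S Q (e 0) (κ • w i) * S Q (f 1) (κ • w i)) * (dd Q e f 0 2 c)⁻¹ =
          (dd Q e f 0 2 c * S Q (e 0) (κ • w i) * (dd Q e f 0 2 c)⁻¹) *
          (dd Q e f 0 2 c * S Q (f 1) (κ • w i) * (dd Q e f 0 2 c)⁻¹) := by group
      rw [h5, h1 c hc0, h2, sub_smul, sub_eq_add_neg, S_add (h.qe 0) (pe _ _ _)
        (by rw [polar_neg_right, pe, neg_zero]), ← S_inv (h.qe 0) (pe _ _ _)]
      group
    rw [h4] at h3
    have hck : c * κ - κ ≠ 0 := by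
      intro h0
      have : (c - 1) * κ = 0 := by rw [sub_mul, one_mul]; exact h0
      rcases mul_eq_zero.1 this with h | h
      · exact hc1 (sub_eq_zero.1 h)
      · exact hκ h
    intro t
    by_cases ht : t = 0
    · rw [ht, zero_smul, S_zero]
      exact one_mem H
    · have hs : t * (c * κ - κ)⁻¹ ≠ 0 := mul_ne_zero ht (inv_ne_zero hck)
      have h6 : dd Q e f 0 2 (t * (c * κ - κ)⁻¹) * S Q (e 0) ((c * κ - κ) • w i) *
          (dd Q e f 0 2 (t * (c * κ - κ)⁻¹))⁻¹ = S Q (e 0) (t • w i) := by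
        rw [S_conj, dd_ei h h02 (by omega) (by omega) hs, ap_smul,
          dd_w h h02 _ (fun k => hwe k i) (fun k => hwf k i), S_smul _ (h.qe 0) (pe _ _ _), smul_smul,
          mul_assoc, inv_mul_cancel₀ hck, mul_one]
      rw [← h6]
      exact mul_mem (mul_mem (hdd _ _ h02 _) h3) (inv_mem (hdd _ _ h02 _))
  have hf1 : ∀ (i : ι) (t : F), S Q (f 1) (t • w i) ∈ H := by
    intro i t
    have h1 : S Q (f 1) (κ • w i) ∈ H := by
      have := mul_mem (inv_mem (he0 i κ)) (hw i)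
      rwa [inv_mul_cancel_left] at this
    by_cases ht : t = 0
    · rw [ht, zero_smul, S_zero]
      exact one_mem H
    · have hs : (t * κ⁻¹)⁻¹ ≠ 0 := inv_ne_zero (mul_ne_zero ht (inv_ne_zero hκ))
      have h6 : dd Q e f 1 2 (t * κ⁻¹)⁻¹ * S Q (f 1) (κ • w i) *
          (dd Q e f 1 2 (t * κ⁻¹)⁻¹)⁻¹ = S Q (f 1) (t • w i) := by
        rw [S_conj, dd_fi h h12 (by omega) (by omega) hs, ap_smul,
          dd_w h h12 _ (fun k => hwe k i) (fun k => hwf k i), S_smul _ (h.qf 1) (pf _ _ _), smul_smul,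
          inv_inv, mul_assoc, inv_mul_cancel₀ hκ, mul_one]
      rw [← h6]
      exact mul_mem (mul_mem (hdd _ _ h12 _) h1) (inv_mem (hdd _ _ h12 _))
  have he : ∀ (i : ℕ) (j : ι) (t : F), i < m → S Q (e i) (t • w j) ∈ H := by
    intro i j t hi
    by_cases hi0 : i = 0
    · subst hi0
      exact he0 j t
    · have h1 := S_conj (nn Q e f 0 i) (e 0) (t • w j)
      rw [nn_ei h (Ne.symm hi0) (by omega) hi, ap_smul,
        nn_w h (Ne.symm hi0) (fun k => hwe k j) (fun k => hwf k j)] at h1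
      rw [← h1]
      exact mul_mem (mul_mem (hnn _ _ (Ne.symm hi0)) (he0 j t)) (inv_mem (hnn _ _ (Ne.symm hi0)))
  have hf : ∀ (i : ℕ) (j : ι) (t : F), i < m → S Q (f i) (t • w j) ∈ H := by
    intro i j t hi
    by_cases hi0 : i = 1
    · subst hi0
      exact hf1 j t
    · have h1 := S_conj (nn Q e f 1 i) (f 1) (t • w j)
      rw [nn_fi h (Ne.symm hi0) (by omega) hi, ap_smul,
        nn_w h (Ne.symm hi0) (fun k => hwe k j) (fun k => hwf k j)] at h1
      rw [← h1]
      exact mul_mem (mul_mem (hnn _ _ (Ne.symm hi0)) (hf1 j t)) (inv_mem (hnn _ _ (Ne.symm hi0)))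
  have r1 : RS Q (e 0) (h.qe 0) ≤ H := RS_le h (by omega) hwe hspan (fun i hi => hX 0 i (Ne.symm hi))
    he hjj
  have r2 : RS Q (f 0) (h.qf 0) ≤ H := by
    refine RS_le h.symm (by omega) hwf ?_ (fun i hi t => ?_) hf hjj
    · rw [← hspan, Set.union_comm (Set.range f)]
    · rw [X_symm h (Ne.symm hi)]
      exact hX i 0 hi _
  have hyp : Hyp Q (e 0) (f 0) := ⟨h.qe 0, h.qf 0, h.one 0 (by omega)⟩
  have h5 := sup_RS_eq_top hG hyp
  exact top_unique (h5 ▸ sup_le r1 r2)

end Cfsg.Agent.H989.Gs.Gen
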