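import Mathlib

/-!
# Root elements of `SL_m` in a group: generation by few products of commuting root elements

`Rts m X` : `X i j t` (`i ≠ j`) satisfy the relations of the root elements of `SL_m`, `X i j t = 1` for indices `≥ m`.

`all_P` : the products `∏ X (2 j + 1) (2 j) κ`, `∏ X (2 j + 2) (2 j + 1) κ`, the opposite ones and one torus element
generate all root groups.
-/

set_option autoImplicit false
set_option linter.unusedSectionVars false

namespace Cfsg.Agent.H989.Gs.SLC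

variable {F G : Type*} [Field F] [Group G]

/-- the relations -/
structure Rts (m : ℕ) (X : ℕ → ℕ → F → G) : Prop where
  add : ∀ {i j : ℕ}, i ≠ j → ∀ s t : F, X i j (s + t) = X i j s * X i j t
  out : ∀ (i j : ℕ) (t : F), m ≤ i ∨ m ≤ j → X i j t = 1
  comm : ∀ {i j k l : ℕ}, i ≠ j → k ≠ l → i ≠ l → j ≠ k → ∀ s t : F, X i j s * X k l t = X k l t * X i j s
  conj : ∀ {i j k : ℕ}, i ≠ j → j ≠ k → i ≠ k → j < m → ∀ s t : F,
    X i j s * X j k t * (X i j s)⁻¹ = X i k (-(s * t)) * X j k t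

variable {m : ℕ} {X : ℕ → ℕ → F → G}

theorem Rts.zero (h : Rts m X) {i j : ℕ} (hij : i ≠ j) : X i j 0 = 1 := by
  have := h.add hij 0 0
  rw [add_zero] at this
  exact left_eq_mul.1 this

theorem Rts.inv (h : Rts m X) {i j : ℕ} (hij : i ≠ j) (t : F) : (X i j t)⁻¹ = X i j (-t) := by
  rw [inv_eq_iff_mul_eq_one, ← h.add hij, add_neg_cancel, h.zero hij]

/-- the opposite system -/
def op (X : ℕ → ℕ → F → G) (i j : ℕ) (t : F) : G := X j i (-t)

theorem op_op (X : ℕ → ℕ → F → G) : op (op X) = X := by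
  funext i j t
  unfold op
  rw [neg_neg]

theorem Rts.op (h : Rts m X) : Rts m (op X) where
  add {i j} hij s t := by
    unfold SLC.op
    rw [neg_add, h.add hij.symm]
  out i j t hij := h.out j i (-t) hij.symm
  comm {i j k l} hij hkl hil hjk s t := h.comm hij.symm hkl.symm hjk hil (-s) (-t)
  conj {i j k} hij hjk hik hj s t := by
    unfold SLC.op
    have h1 := h.conj hjk.symm hij.symm hik.symm hj (-t) (-s)
    have h2 : -(-t * -s) = -(s * t) := by ring
    have h3 : -(-(s * t)) = s * t := by ring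
    rw [h2] at h1
    have h4 : X j i (-s) * X k j (-t) * (X j i (-s))⁻¹ =
        (X k j (-t) * X j i (-s) * (X k j (-t))⁻¹ * (X j i (-s))⁻¹)⁻¹ * X k j (-t) := by group
    rw [h4, h1, mul_inv_cancel_right, h.inv hik.symm]

variable {H : Subgroup G}

/-- from `X i j (F) ≤ H` and `X j k t₀ ∈ H` : `X i k (F) ≤ H` -/
theorem Rts.trans (h : Rts m X) {i j k : ℕ} (hij : i ≠ j) (hjk : j ≠ k) (hik : i ≠ k) (hj : j < m)
    (h1 : ∀ t, X i j t ∈ H) {t₀ : F} (ht : t₀ ≠ 0) (h2 : X j k t₀ ∈ H) : ∀ t, X i k t ∈ H := by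
  intro t
  have h3 := h.conj hij hjk hik hj (-(t * t₀⁻¹)) t₀
  have h4 : -(-(t * t₀⁻¹) * t₀) = t := by field_simp
  rw [h4] at h3
  have h5 : X i k t = X i j (-(t * t₀⁻¹)) * X j k t₀ *
      (X i j (-(t * t₀⁻¹)))⁻¹ * (X j k t₀)⁻¹ := by rw [h3]; group
  rw [h5]
  exact mul_mem (mul_mem (mul_mem (h1 _) h2) (inv_mem (h1 _))) (inv_mem h2)

/-! ### Products of commuting root elements -/

/-- `∏_{j < n} X (k + 2 j + 1) (k + 2 j) t` -/
def T (X : ℕ → ℕ → F → G) : ℕ → ℕ → F → G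
  | 0, _, _ => 1
  | n + 1, k, t => X (k + 1) k t * T X n (k + 2) t

theorem T_comm (h : Rts m X) {a b : ℕ} (hab : a ≠ b) (s : F) (n : ℕ) : ∀ (k : ℕ) (t : F), a < k → b < k →
    X a b s * T X n k t = T X n k t * X a b s := by
  induction n with
  | zero =>
    intro k t _ _
    change X a b s * 1 = 1 * X a b s
    rw [mul_one, one_mul]
  | succ n ih =>
    intro k t ha hb
    change X a b s * (X (k + 1) k t * T X n (k + 2) t) = X (k + 1) k t * T X n (k + 2) t * X a b s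
    rw [← mul_assoc, h.comm hab (by omega) (by omega) (by omega) s t, mul_assoc, mul_assoc,
      ih (k + 2) t (by omega) (by omega)]

theorem T_zero (h : Rts m X) (n : ℕ) : ∀ k : ℕ, T X n k 0 = 1 := by
  induction n with
  | zero => intro k; rfl
  | succ n ih =>
    intro k
    change X (k + 1) k 0 * T X n (k + 2) 0 = 1
    rw [ih, h.zero (by omega), one_mul]

theorem T_add (h : Rts m X) (n : ℕ) : ∀ (k : ℕ) (s t : F), T X n k (s + t) = T X n k s * T X n k t := by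
  induction n with
  | zero => intro k s t; exact (one_mul _).symm
  | succ n ih =>
    intro k s t
    change X (k + 1) k (s + t) * T X n (k + 2) (s + t) =
      (X (k + 1) k s * T X n (k + 2) s) * (X (k + 1) k t * T X n (k + 2) t)
    rw [ih, h.add (by omega)]
    have h1 := T_comm h (a := k + 1) (b := k) (by omega) t n (k + 2) s (by omega) (by omega)
    rw [mul_assoc (X (k + 1) k s) (T X n (k + 2) s), ← mul_assoc (T X n (k + 2) s), ← h1]
    simp only [mul_assoc]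

theorem T_inv (h : Rts m X) (n k : ℕ) (t : F) : (T X n k t)⁻¹ = T X n k (-t) := by
  rw [inv_eq_iff_mul_eq_one, ← T_add h, add_neg_cancel, T_zero h]

theorem T_conj {D : G} (hD : ∀ i, 2 ≤ i → Even i → ∀ t, D * X (i + 1) i t * D⁻¹ = X (i + 1) i t) (n : ℕ) :
    ∀ (k : ℕ) (t : F), 2 ≤ k → Even k → D * T X n k t * D⁻¹ = T X n k t := by
  induction n with
  | zero =>
    intro k t _ _
    change D * 1 * D⁻¹ = 1
    rw [mul_one, mul_inv_cancel]
  | succ n ih =>
    intro k t hk hk2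
    change D * (X (k + 1) k t * T X n (k + 2) t) * D⁻¹ = X (k + 1) k t * T X n (k + 2) t
    have h3 := ih (k + 2) t (by omega) (hk2.add (by decide))
    calc D * (X (k + 1) k t * T X n (k + 2) t) * D⁻¹
        = (D * X (k + 1) k t * D⁻¹) * (D * T X n (k + 2) t * D⁻¹) := by group
      _ = _ := by rw [h3, hD k hk hk2]

/-- automorphisms acting like a field automorphism -/
theorem T_map {a : G →* G} {σ : F → F} (ha : ∀ i j, i ≠ j → ∀ t, a (X i j t) = X i j (σ t)) (n : ℕ) :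
    ∀ (k : ℕ) (t : F), a (T X n k t) = T X n k (σ t) := by
  induction n with
  | zero => intro k t; exact map_one _
  | succ n ih =>
    intro k t
    change a (X (k + 1) k t * T X n (k + 2) t) = X (k + 1) k (σ t) * T X n (k + 2) (σ t)
    rw [map_mul, ha _ _ (by omega), ih]

/-! ### The base -/

/-- a set of field elements closed under addition and under multiplication by a generator -/
theorem eq_univ_of_closed {A : AddSubgroup F} {S : Set F} {c : F} (hcl : Subring.closure S = ⊤)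
    (hμ : ∀ μ ∈ S, ∀ t ∈ A, t * μ ∈ A) (hc : c ≠ 0) (hcA : c ∈ A) (t : F) : t ∈ A := by
  let R : Subring F :=
    { carrier := {r | ∀ t ∈ A, t * r ∈ A}
      mul_mem' := by
        intro a b ha hb t ht
        rw [← mul_assoc]
        exact hb _ (ha _ ht)
      one_mem' := by intro t ht; rwa [mul_one]
      add_mem' := by
        intro a b ha hb t ht
        rw [mul_add]
        exact add_mem (ha _ ht) (hb _ ht)
      zero_mem' := by intro t _; rw [mul_zero]; exact zero_mem A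
      neg_mem' := by
        intro a ha t ht
        rw [mul_neg]
        exact neg_mem (ha _ ht) }
  have h1 : Subring.closure S ≤ R := by
    rw [Subring.closure_le]
    exact fun μ hm => hμ μ hm
  have h2 : c⁻¹ * t ∈ R := by
    apply h1
    rw [hcl]
    trivial
  have h3 := h2 c hcA
  rwa [mul_inv_cancel_left₀ hc] at h3

/-- the additive group of the `t` with `X i j t ∈ H` -/
def AX (h : Rts m X) {i j : ℕ} (hij : i ≠ j) (H : Subgroup G) : AddSubgroup F where
  carrier := {t | X i j t ∈ H}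
  add_mem' := by
    intro s t hs ht
    change X i j (s + t) ∈ H
    rw [h.add hij]
    exact mul_mem hs ht
  zero_mem' := by
    change X i j 0 ∈ H
    rw [h.zero hij]
    exact one_mem H
  neg_mem' := by
    intro t ht
    change X i j (-t) ∈ H
    rw [← h.inv hij]
    exact inv_mem ht

theorem base (h : Rts m X) {D : G} (hD : D ∈ H) {μ κ : F} (hμ1 : μ ≠ 1) (hcl : Subring.closure {μ} = ⊤)
    (hDi : ∀ i, 2 ≤ i → Even i → ∀ t, D * X (i + 1) i t * D⁻¹ = X (i + 1) i t)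
    (hD0 : ∀ t, D * X 1 0 t * D⁻¹ = X 1 0 (t * μ)) (hκ : κ ≠ 0) {n : ℕ} (hT : T X (n + 1) 0 κ ∈ H) :
    ∀ t, X 1 0 t ∈ H := by
  have h10 : (1 : ℕ) ≠ 0 := one_ne_zero
  have hT' : X 1 0 κ * T X n 2 κ ∈ H := hT
  have h3 : D * (X 1 0 κ * T X n 2 κ) * D⁻¹ ∈ H := mul_mem (mul_mem hD hT') (inv_mem hD)
  have h4 : D * (X 1 0 κ * T X n 2 κ) * D⁻¹ = X 1 0 (κ * μ) * T X n 2 κ := by
    calc D * (X 1 0 κ * T X n 2 κ) * D⁻¹
        = (D * X 1 0 κ * D⁻¹) * (D * T X n 2 κ * D⁻¹) := by group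
      _ = _ := by rw [hD0, T_conj hDi n 2 κ (le_refl 2) (by decide)]
  rw [h4] at h3
  have h5 : X 1 0 (κ * μ - κ) ∈ H := by
    have h6 := mul_mem h3 (inv_mem hT')
    have h7 : X 1 0 (κ * μ) * T X n 2 κ * (X 1 0 κ * T X n 2 κ)⁻¹ = X 1 0 (κ * μ - κ) := by
      rw [sub_eq_add_neg, h.add h10, ← h.inv h10]
      group
    rwa [h7] at h6
  have h8 : κ * μ - κ ≠ 0 := by
    intro h9
    apply hμ1
    have : κ * (μ - 1) = 0 := by rw [mul_sub, mul_one]; exact h9
    rcases mul_eq_zero.1 this with h | h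
    · exact absurd h hκ
    · exact sub_eq_zero.1 h
  intro t
  exact eq_univ_of_closed (A := AX h h10 H) hcl (fun μ' hμ' t ht => by
    rw [Set.mem_singleton_iff.1 hμ']
    change X 1 0 (t * μ) ∈ H
    rw [← hD0]
    exact mul_mem (mul_mem hD ht) (inv_mem hD)) h8 h5 t

/-! ### The chain -/

/-- all root groups `X i j`, `i ≠ j ≤ k` lie in `H` -/
def P (X : ℕ → ℕ → F → G) (H : Subgroup G) (k : ℕ) : Prop :=
  ∀ i j, i ≤ k → j ≤ k → i ≠ j → ∀ t, X i j t ∈ H

theorem P_op {k : ℕ} (hP : P X H k) : P (op X) H k :=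
  fun i j hi hj hij t => hP j i hj hi hij.symm (-t)

theorem chain_side (h : Rts m X) {k : ℕ} (hk : 1 ≤ k) (hkm : k + 1 < m) (hP : P X H k)
    {R : G} {κ : F} (hκ : κ ≠ 0) (hR : X (k + 1) k κ * R ∈ H)
    (hRc : ∀ s, X k 0 s * R = R * X k 0 s) : ∀ j, j ≤ k → ∀ t, X (k + 1) j t ∈ H := by
  have h0 : ∀ t, X (k + 1) 0 t ∈ H := by
    intro t
    have h1 := hRc (-(t * κ⁻¹))
    have h2 := h.conj (i := k + 1) (j := k) (k := 0) (by omega) (by omega) (by omega) (by omega) κ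
      (-(t * κ⁻¹))
    have h3 : -(κ * -(t * κ⁻¹)) = t := by field_simp
    rw [h3] at h2
    have h4 : X (k + 1) 0 t = (X (k + 1) k κ * R) * X k 0 (-(t * κ⁻¹)) *
        (X (k + 1) k κ * R)⁻¹ * (X k 0 (-(t * κ⁻¹)))⁻¹ := by
      have h5 : (X (k + 1) k κ * R) * X k 0 (-(t * κ⁻¹)) * (X (k + 1) k κ * R)⁻¹ =
          X (k + 1) k κ * X k 0 (-(t * κ⁻¹)) * (X (k + 1) k κ)⁻¹ := by
        rw [mul_assoc (X (k + 1) k κ) R, ← h1]
        group
      rw [h5, h2]
      group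
    rw [h4]
    have h6 := hP k 0 (le_refl k) (by omega) (by omega) (-(t * κ⁻¹))
    exact mul_mem (mul_mem (mul_mem hR h6) (inv_mem hR)) (inv_mem h6)
  intro j hj
  by_cases hj0 : j = 0
  · subst hj0
    exact h0
  · exact h.trans (i := k + 1) (j := 0) (k := j) (by omega) (by omega) (by omega) (by omega) h0
      one_ne_zero (hP 0 j (by omega) hj (by omega) 1)

/-- the invariant -/
structure Inv (m : ℕ) (X : ℕ → ℕ → F → G) (H : Subgroup G) (κ : F) (k : ℕ) : Prop where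
  k1 : 1 ≤ k
  hP : P X H k
  a : ∃ n, m ≤ k + 2 * n ∧ T X n k κ ∈ H
  b : ∃ n, m ≤ k + 1 + 2 * n ∧ T X n (k + 1) κ ∈ H
  c : ∃ n, m ≤ k + 2 * n ∧ T (op X) n k κ ∈ H
  d : ∃ n, m ≤ k + 1 + 2 * n ∧ T (op X) n (k + 1) κ ∈ H

theorem Inv.step (h : Rts m X) {κ : F} (hκ : κ ≠ 0) {k : ℕ} (hI : Inv m X H κ k)
    (hkm : k + 1 < m) : Inv m X H κ (k + 1) := by
  obtain ⟨na, hna, hTa⟩ := hI.a
  obtain ⟨nc, hnc, hTc⟩ := hI.c
  obtain ⟨na, rfl⟩ : ∃ a, na = a + 1 := ⟨na - 1, by omega⟩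
  obtain ⟨nc, rfl⟩ : ∃ a, nc = a + 1 := ⟨nc - 1, by omega⟩
  have hk1 := hI.k1
  have hTa' : X (k + 1) k κ * T X na (k + 2) κ ∈ H := hTa
  have hTc' : op X (k + 1) k κ * T (op X) nc (k + 2) κ ∈ H := hTc
  have h1 := chain_side h hI.k1 hkm hI.hP hκ hTa'
    (fun s => T_comm h (by omega) s _ _ _ (by omega) (by omega))
  have h2 := chain_side h.op hI.k1 hkm (P_op hI.hP) hκ hTc'
    (fun s => T_comm h.op (by omega) s _ _ _ (by omega) (by omega))
  refine ⟨by omega, ?_, hI.b, ⟨na, by omega, ?_⟩, hI.d, ⟨nc, by omega, ?_⟩⟩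
  · intro i j hi hj hij t
    by_cases hi1 : i = k + 1
    · subst hi1
      exact h1 j (by omega) t
    · by_cases hj1 : j = k + 1
      · subst hj1
        have h3 := h2 i (by omega) (-t)
        change X i (k + 1) (- -t) ∈ H at h3
        rwa [neg_neg] at h3
      · exact hI.hP i j (by omega) (by omega) hij t
  · have h3 := mul_mem (inv_mem (h1 k (le_refl k) κ)) hTa'
    rwa [inv_mul_cancel_left] at h3
  · have h3 := mul_mem (inv_mem (h2 k (le_refl k) κ)) hTc'
    rwa [inv_mul_cancel_left] at h3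

/-- **all root groups of the natural `SL_m`, from the two base root groups** -/
theorem all_P_of (h : Rts m X) (hm : 2 ≤ m) {κ : F} (hκ : κ ≠ 0) (h3 : ∀ t, X 1 0 t ∈ H)
    (h5 : ∀ t, X 0 1 t ∈ H) {n : ℕ} (hn : m ≤ 2 * n)
    (hT0 : T X n 0 κ ∈ H) (hT1 : T X n 1 κ ∈ H) (hT0' : T (op X) n 0 κ ∈ H) (hT1' : T (op X) n 1 κ ∈ H) :
    P X H (m - 1) := by
  obtain ⟨n, rfl⟩ : ∃ a, n = a + 1 := ⟨n - 1, by omega⟩
  have hI : Inv m X H κ 1 := by
    refine ⟨le_refl 1, ?_, ⟨n + 1, by omega, hT1⟩, ⟨n, by omega, ?_⟩, ⟨n + 1, by omega, hT1'⟩,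
      ⟨n, by omega, ?_⟩⟩
    · intro i j hi hj hij t
      rcases Nat.le_one_iff_eq_zero_or_eq_one.1 hi with rfl | rfl
      · rcases Nat.le_one_iff_eq_zero_or_eq_one.1 hj with rfl | rfl
        · exact absurd rfl hij
        · exact h5 t
      · rcases Nat.le_one_iff_eq_zero_or_eq_one.1 hj with rfl | rfl
        · exact h3 t
        · exact absurd rfl hij
    · have h6 : X 1 0 κ * T X n 2 κ ∈ H := hT0
      have h7 := mul_mem (inv_mem (h3 κ)) h6
      rwa [inv_mul_cancel_left] at h7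
    · have h6 : op X 1 0 κ * T (op X) n 2 κ ∈ H := hT0'
      have h7 := mul_mem (inv_mem (h5 (-κ))) h6
      change (X 0 1 (-κ))⁻¹ * (X 0 1 (-κ) * T (op X) n 2 κ) ∈ H at h7
      rwa [inv_mul_cancel_left] at h7
  have key : ∀ k, 1 ≤ k → k < m → Inv m X H κ k := by
    intro k
    induction k with
    | zero => intro h0; omega
    | succ k ih =>
      intro _ hk
      by_cases hk0 : k = 0
      · subst hk0
        exact hI
      · exact (ih (by omega) (by omega)).step h hκ hk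
  exact (key (m - 1) (by omega) (by omega)).hP

/-- **all root groups of the natural `SL_m`** -/
theorem all_P (h : Rts m X) (hm : 2 ≤ m) {D : G} (hD : D ∈ H) {μ ν κ : F} (hμ1 : μ ≠ 1)
    (hν1 : ν ≠ 1) (hcl : Subring.closure {μ} = ⊤) (hcl' : Subring.closure {ν} = ⊤)
    (hDi : ∀ i, 2 ≤ i → Even i → ∀ t, D * X (i + 1) i t * D⁻¹ = X (i + 1) i t)
    (hD0 : ∀ t, D * X 1 0 t * D⁻¹ = X 1 0 (t * μ))
    (hDi' : ∀ i, 2 ≤ i → Even i → ∀ t, D * X i (i + 1) t * D⁻¹ = X i (i + 1) t)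
    (hD0' : ∀ t, D * X 0 1 t * D⁻¹ = X 0 1 (t * ν)) (hκ : κ ≠ 0) {n : ℕ} (hn : m ≤ 2 * n)
    (hT0 : T X n 0 κ ∈ H) (hT1 : T X n 1 κ ∈ H) (hT0' : T (op X) n 0 κ ∈ H) (hT1' : T (op X) n 1 κ ∈ H) :
    P X H (m - 1) := by
  obtain ⟨n', rfl⟩ : ∃ a, n = a + 1 := ⟨n - 1, by omega⟩
  have h3 := base h hD hμ1 hcl hDi hD0 hκ hT0
  have h4 := base h.op hD hν1 hcl' (fun i h1 h2 t => hDi' i h1 h2 (-t)) (fun t => by
    change D * X 0 1 (-t) * D⁻¹ = X 0 1 (-(t * ν))
    rw [hD0', neg_mul]) hκ hT0'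
  exact all_P_of h hm hκ h3 (fun t => by
    have := h4 (-t)
    change X 0 1 (- -t) ∈ H at this
    rwa [neg_neg] at this) hn hT0 hT1 hT0' hT1'

end Cfsg.Agent.H989.Gs.SLC
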